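import Mathlib.AlgebraicGeometry.EllipticCurve.VariableChange
import Mathlib.RingTheory.Etale.StandardEtale
import Mathlib.RingTheory.Spectrum.Prime.RingHom
import Mathlib.FieldTheory.IsAlgClosed.AlgebraicClosure

/-!
# Weierstrass curves with the same j-invariant, away from `0` and `1728`
-/

set_option autoImplicit false
set_option linter.all false

universe u

open WeierstrassCurve Polynomial

noncomputable section

namespace GrothLib.EllJ

variable {A : Type u} [CommRing A] (W W' : WeierstrassCurve A)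

/-- The numerator of the translation in a change of variables from `W` to `W'`. -/
def num : A :=
  -W.b₂ ^ 3 * W'.b₂ * W'.b₄ + 18 * W.b₂ ^ 3 * W'.b₆ + W.b₂ * W.b₄ * W'.b₂ ^ 3
    - 18 * W.b₆ * W'.b₂ ^ 3 + 432 * W.b₆ * W'.b₂ * W'.b₄ - 432 * W.b₂ * W.b₄ * W'.b₆

theorem num_eq : W.c₆ * W'.c₄ * W'.b₂ = W.c₄ * W'.c₆ * W.b₂ + 12 * num W W' := by
  simp only [num, c₄, c₆]; ring

theorem four_Δ : 4 * W.Δ = -W.b₂ ^ 2 * (W.b₂ * W.b₆ - W.b₄ ^ 2) - 32 * W.b₄ ^ 3 - 108 * W.b₆ ^ 2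
    + 36 * W.b₂ * W.b₄ * W.b₆ := by
  simp only [Δ, b₂, b₄, b₆, b₈]; ring

variable [W.IsElliptic] [W'.IsElliptic]

theorem Δ_mul_j : W.Δ * W.j = W.c₄ ^ 3 := by
  rw [j, ← coe_Δ', ← mul_assoc, Units.mul_inv, one_mul]

theorem isUnit_c₄ (h : IsUnit W.j) : IsUnit W.c₄ := by
  rw [← isUnit_pow_iff three_ne_zero, ← Δ_mul_j]
  exact W.isUnit_Δ.mul h

theorem isUnit_c₆ (h : IsUnit (W.j - 1728)) : IsUnit W.c₆ := by
  rw [← isUnit_pow_iff two_ne_zero,
    show W.c₆ ^ 2 = W.Δ * (W.j - 1728) by linear_combination W.c_relation - Δ_mul_j W]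
  exact W.isUnit_Δ.mul h

theorem isUnit_b₂_of_two_mem (h : IsUnit W.j) (p : Ideal A) [p.IsPrime] (h2 : (2 : A) ∈ p) :
    W.a₁ ∉ p ∧ W.b₂ ∉ p := by
  have hc : W.c₄ ∉ p := fun hm => ‹p.IsPrime›.ne_top (Ideal.eq_top_of_isUnit_mem _ hm (isUnit_c₄ W h))
  have hb : W.b₂ ∉ p := fun hm => hc (by
    rw [c₄, show W.b₂ ^ 2 - 24 * W.b₄ = W.b₂ * W.b₂ - 2 * (12 * W.b₄) by ring]
    exact sub_mem (p.mul_mem_right _ hm) (p.mul_mem_right _ h2))
  refine ⟨fun hm => hb ?_, hb⟩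
  rw [b₂, show W.a₁ ^ 2 + 4 * W.a₂ = W.a₁ * W.a₁ + 2 * (2 * W.a₂) by ring]
  exact add_mem (p.mul_mem_right _ hm) (p.mul_mem_right _ h2)

/-- The data `v = u²` and `r` of a change of variables from `W` to `W'`. -/
theorem exists_v_r (hj : W.j = W'.j) (h0 : IsUnit W.j) (h1728 : IsUnit (W.j - 1728)) :
    ∃ v r : A, IsUnit v ∧ v * W'.b₂ = W.b₂ + 12 * r ∧
      v ^ 2 * W'.b₄ = W.b₄ + r * W.b₂ + 6 * r ^ 2 ∧
      v ^ 3 * W'.b₆ = W.b₆ + 2 * r * W.b₄ + r ^ 2 * W.b₂ + 4 * r ^ 3 := by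
  have hp : IsUnit (W.c₆ * W'.c₄) := (isUnit_c₆ W h1728).mul (isUnit_c₄ W' (hj ▸ h0))
  obtain ⟨q, hq⟩ := (isUnit_c₄ W h0).mul (isUnit_c₆ W' (hj ▸ h1728))
  have hE : W.Δ * W'.c₄ ^ 3 - W'.Δ * W.c₄ ^ 3 = 0 := by
    rw [← Δ_mul_j W, ← Δ_mul_j W', hj]; ring
  have hE4 : (4 * W.Δ) * W'.c₄ ^ 3 - (4 * W'.Δ) * W.c₄ ^ 3 = 0 := by linear_combination 4 * hE
  rw [four_Δ, four_Δ] at hE4
  set w : A := ↑q⁻¹ with hw
  have hqw : W.c₄ * W'.c₆ * w = 1 := by rw [← hq, hw, Units.mul_inv]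
  refine ⟨W.c₆ * W'.c₄ * w, num W W' * w, hp.mul q⁻¹.isUnit, ?_, ?_, ?_⟩
  · linear_combination w * num_eq W W' + W.b₂ * hqw
  · have key : (W.c₆ * W'.c₄) ^ 2 * W'.b₄ = (W.c₄ * W'.c₆) ^ 2 * W.b₄
        + (W.c₄ * W'.c₆) * num W W' * W.b₂ + 6 * num W W' ^ 2 := by
      simp only [c₄, c₆] at hE4
      simp only [num, c₄, c₆]
      linear_combination 18 * hE4
    linear_combination w ^ 2 * key
      + (W.b₄ * (W.c₄ * W'.c₆ * w + 1) + num W W' * w * W.b₂) * hqw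
  · have key : (W.c₆ * W'.c₄) ^ 3 * W'.b₆ = (W.c₄ * W'.c₆) ^ 3 * W.b₆
        + 2 * (W.c₄ * W'.c₆) ^ 2 * num W W' * W.b₄ + (W.c₄ * W'.c₆) * num W W' ^ 2 * W.b₂
        + 4 * num W W' ^ 3 := by
      simp only [c₄, c₆] at hE4
      simp only [num, c₄, c₆]
      linear_combination (3 * W'.b₂ * ((-W.b₂ ^ 3 + 36 * W.b₂ * W.b₄ - 216 * W.b₆) *
        (W'.b₂ ^ 2 - 24 * W'.b₄)) + 2 * (-W.b₂ ^ 3 + 36 * W.b₂ * W.b₄ - 216 * W.b₆) *
        (-W'.b₂ ^ 3 + 36 * W'.b₂ * W'.b₄ - 216 * W'.b₆)) * hE4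
    linear_combination w ^ 3 * key
      + (W.b₆ * ((W.c₄ * W'.c₆ * w) ^ 2 + W.c₄ * W'.c₆ * w + 1)
        + 2 * num W W' * w * W.b₄ * (W.c₄ * W'.c₆ * w + 1)
        + num W W' ^ 2 * w ^ 2 * W.b₂) * hqw

/-- A change of variables once square roots have been taken, `2` invertible. -/
theorem eq_of_two {B : Type u} [CommRing B] (E E' : WeierstrassCurve B) {v r : B} (u : Bˣ)
    (huv : (u : B) ^ 2 = v) (h2 : IsUnit (2 : B)) (hb2 : v * E'.b₂ = E.b₂ + 12 * r)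
    (hb4 : v ^ 2 * E'.b₄ = E.b₄ + r * E.b₂ + 6 * r ^ 2)
    (hb6 : v ^ 3 * E'.b₆ = E.b₆ + 2 * r * E.b₄ + r ^ 2 * E.b₂ + 4 * r ^ 3) :
    ∃ C : VariableChange B, C • E = E' := by
  obtain ⟨i, hi⟩ := h2.exists_left_inv
  refine ⟨⟨u, r, i * (u * E'.a₁ - E.a₁), i * ((u : B) ^ 3 * E'.a₃ - E.a₃ - r * E.a₁)⟩, ?_⟩
  set C : VariableChange B :=
    ⟨u, r, i * (u * E'.a₁ - E.a₁), i * ((u : B) ^ 3 * E'.a₃ - E.a₃ - r * E.a₁)⟩
  have hu : (↑u⁻¹ : B) * u = 1 := u.inv_mul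
  have e1 : (C • E).a₁ = E'.a₁ := by
    rw [variableChange_a₁]
    linear_combination E'.a₁ * hu + ↑u⁻¹ * (↑u * E'.a₁ - E.a₁) * hi
  have e3 : (C • E).a₃ = E'.a₃ := by
    rw [variableChange_a₃]
    linear_combination E'.a₃ * ((↑u⁻¹ : B) ^ 2 * ↑u ^ 2 + ↑u⁻¹ * ↑u + 1) * hu
      + (↑u⁻¹ : B) ^ 3 * ((u : B) ^ 3 * E'.a₃ - E.a₃ - r * E.a₁) * hi
  have hv2 : (↑u⁻¹ : B) ^ 2 * v = 1 := by rw [← huv, ← mul_pow, hu, one_pow]
  have f2 : (C • E).b₂ = E'.b₂ := by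
    rw [variableChange_b₂]
    linear_combination -(↑u⁻¹ : B) ^ 2 * hb2 + E'.b₂ * hv2
  have f4 : (C • E).b₄ = E'.b₄ := by
    rw [variableChange_b₄]
    linear_combination -(↑u⁻¹ : B) ^ 4 * hb4 + E'.b₄ * ((↑u⁻¹ : B) ^ 2 * v + 1) * hv2
  have f6 : (C • E).b₆ = E'.b₆ := by
    rw [variableChange_b₆]
    linear_combination -(↑u⁻¹ : B) ^ 6 * hb6
      + E'.b₆ * (((↑u⁻¹ : B) ^ 2 * v) ^ 2 + (↑u⁻¹ : B) ^ 2 * v + 1) * hv2
  simp only [b₂, e1] at f2
  simp only [b₄, e1, e3] at f4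
  simp only [b₆, e3] at f6
  have e2 : (C • E).a₂ = E'.a₂ := by
    linear_combination i ^ 2 * f2 - ((C • E).a₂ - E'.a₂) * (2 * i + 1) * hi
  have e4 : (C • E).a₄ = E'.a₄ := by
    linear_combination i * f4 - ((C • E).a₄ - E'.a₄) * hi
  have e6 : (C • E).a₆ = E'.a₆ := by
    linear_combination i ^ 2 * f6 - ((C • E).a₆ - E'.a₆) * (2 * i + 1) * hi
  exact WeierstrassCurve.ext e1 e2 e3 e4 e6

/-- A change of variables once the quadratic equation for `s` is solved, `a₁` invertible. -/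
theorem eq_of_root {B : Type u} [CommRing B] (E E' : WeierstrassCurve B) [E.IsElliptic]
    [E'.IsElliptic] (hj : E.j = E'.j) (hj0 : IsUnit E'.j) {v r s : B} (hv : IsUnit v)
    (hb2 : v * E'.b₂ = E.b₂ + 12 * r) (hb4 : v ^ 2 * E'.b₄ = E.b₄ + r * E.b₂ + 6 * r ^ 2)
    (hb6 : v ^ 3 * E'.b₆ = E.b₆ + 2 * r * E.b₄ + r ^ 2 * E.b₂ + 4 * r ^ 3)
    (hs : s ^ 2 + E.a₁ * s + (v * E'.a₂ - E.a₂ - 3 * r) = 0)
    (hd : IsUnit (2 * s + E.a₁)) (ha : IsUnit E'.a₁) (hb : IsUnit E'.b₂) :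
    ∃ C : VariableChange B, C • E = E' := by
  obtain ⟨α, hα⟩ := ha
  obtain ⟨δ, hδ⟩ := hd
  let u : Bˣ := δ * α⁻¹
  have hua : (u : B) * E'.a₁ = 2 * s + E.a₁ := by
    rw [← hα, ← hδ, Units.val_mul, mul_assoc, Units.inv_mul, mul_one]
  have huv : (u : B) ^ 2 = v := by
    refine (α.isUnit.pow 2).mul_right_cancel ?_
    rw [← mul_pow, hα, hua]
    linear_combination 4 * hs - (by simpa [b₂] using hb2 :
      v * (E'.a₁ ^ 2 + 4 * E'.a₂) = E.a₁ ^ 2 + 4 * E.a₂ + 12 * r)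
  let t : B := ↑δ⁻¹ * (E.a₄ - s * E.a₃ + 2 * r * E.a₂ - r * s * E.a₁ + 3 * r ^ 2 - (u : B) ^ 4 * E'.a₄)
  refine ⟨⟨u, r, s, t⟩, ?_⟩
  set C : VariableChange B := ⟨u, r, s, t⟩
  have hu : (↑u⁻¹ : B) * u = 1 := u.inv_mul
  have hv2 : (↑u⁻¹ : B) ^ 2 * v = 1 := by rw [← huv, ← mul_pow, hu, one_pow]
  have e1 : (C • E).a₁ = E'.a₁ := by
    rw [variableChange_a₁]
    linear_combination -(↑u⁻¹ : B) * hua + E'.a₁ * hu
  have e2 : (C • E).a₂ = E'.a₂ := by
    rw [variableChange_a₂]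
    linear_combination -(↑u⁻¹ : B) ^ 2 * hs + E'.a₂ * hv2
  have e4 : (C • E).a₄ = E'.a₄ := by
    have ht : (2 * s + E.a₁) * t = E.a₄ - s * E.a₃ + 2 * r * E.a₂ - r * s * E.a₁ + 3 * r ^ 2
        - (u : B) ^ 4 * E'.a₄ := by
      rw [← hδ, ← mul_assoc, Units.mul_inv, one_mul]
    rw [variableChange_a₄]
    linear_combination -(↑u⁻¹ : B) ^ 4 * ht
      + E'.a₄ * (((↑u⁻¹ : B) * u) ^ 3 + ((↑u⁻¹ : B) * u) ^ 2 + ↑u⁻¹ * u + 1) * hu
  have f4 : (C • E).b₄ = E'.b₄ := by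
    rw [variableChange_b₄]
    linear_combination -(↑u⁻¹ : B) ^ 4 * hb4 + E'.b₄ * ((↑u⁻¹ : B) ^ 2 * v + 1) * hv2
  have f6 : (C • E).b₆ = E'.b₆ := by
    rw [variableChange_b₆]
    linear_combination -(↑u⁻¹ : B) ^ 6 * hb6
      + E'.b₆ * (((↑u⁻¹ : B) ^ 2 * v) ^ 2 + (↑u⁻¹ : B) ^ 2 * v + 1) * hv2
  have e3 : (C • E).a₃ = E'.a₃ := by
    refine α.isUnit.mul_left_cancel ?_
    rw [hα]
    have h := f4
    simp only [b₄, e1, e4] at h
    exact add_left_cancel h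
  have f2 : (C • E).b₂ = E'.b₂ := by simp only [b₂, e1, e2]
  have hc : (C • E).c₄ = E'.c₄ := by simp only [c₄, f2, f4]
  have hΔ : (C • E).Δ = E'.Δ := by
    refine hj0.mul_right_cancel ?_
    rw [Δ_mul_j E', ← hc, ← Δ_mul_j (C • E), variableChange_j, hj]
  have f8 : (C • E).b₈ = E'.b₈ := by
    refine (hb.pow 2).mul_left_cancel ?_
    have h := hΔ
    simp only [Δ, f2, f4, f6] at h
    linear_combination -h
  have e6 : (C • E).a₆ = E'.a₆ := by
    refine hb.mul_left_cancel ?_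
    have h := f8
    simp only [b₈, e1, e2, e3, e4] at h
    simp only [b₂]
    linear_combination h
  exact WeierstrassCurve.ext e1 e2 e3 e4 e6

theorem exists_etale (hj : W.j = W'.j) (h0 : IsUnit W.j) (h1728 : IsUnit (W.j - 1728))
    (p : PrimeSpectrum A) :
    ∃ (B : Type u) (_ : CommRing B) (_ : Algebra A B), Algebra.Etale A B ∧
      p ∈ Set.range (PrimeSpectrum.comap (algebraMap A B)) ∧
      ∃ C : VariableChange B, C • (W.map (algebraMap A B)) = W'.map (algebraMap A B) := by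
  obtain ⟨v, r, hv, hb2, hb4, hb6⟩ := exists_v_r W W' hj h0 h1728
  let K := AlgebraicClosure p.asIdeal.ResidueField
  have hker : RingHom.ker (algebraMap A K) = p.asIdeal := by
    rw [IsScalarTower.algebraMap_eq A p.asIdeal.ResidueField K,
      ← RingHom.comap_ker, (RingHom.injective_iff_ker_eq_bot _).1
        (algebraMap p.asIdeal.ResidueField K).injective, ← RingHom.ker_eq_comap_bot,
      Ideal.ker_algebraMap_residueField]
  have key : ∀ (P : StandardEtalePair A) (x : K), P.HasMap x →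
      p ∈ Set.range (PrimeSpectrum.comap (algebraMap A P.Ring)) := fun P x hx => by
    refine ⟨⟨RingHom.ker (P.lift x hx).toRingHom, RingHom.ker_isPrime _⟩, PrimeSpectrum.ext ?_⟩
    show (RingHom.ker (P.lift x hx).toRingHom).comap (algebraMap A P.Ring) = p.asIdeal
    rw [RingHom.comap_ker]
    exact (congrArg RingHom.ker (P.lift x hx).comp_algebraMap).trans hker
  by_cases h2 : (2 : A) ∈ p.asIdeal
  · obtain ⟨ha, -⟩ := isUnit_b₂_of_two_mem W h0 p.asIdeal h2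
    obtain ⟨ha', hb'⟩ := isUnit_b₂_of_two_mem W' (hj ▸ h0) p.asIdeal h2
    let k : A := W'.a₁ * W'.b₂
    let c : A := v * W'.a₂ - W.a₂ - 3 * r
    let P : StandardEtalePair A :=
      { f := X ^ 2 + C W.a₁ * X + C c
        monic_f := by monicity!
        g := C k * (C 2 * X + C W.a₁)
        cond := ⟨C k, 0, 1, by
          simp only [derivative_add, derivative_X_pow, derivative_mul, derivative_C, derivative_X,
            Nat.cast_ofNat, Nat.add_one_sub_one, pow_one]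
          ring⟩ }
    obtain ⟨x, hx⟩ := IsAlgClosed.exists_root
      (p := X ^ 2 + C (algebraMap A K W.a₁) * X + C (algebraMap A K c))
      (by
        have : (X ^ 2 + C (algebraMap A K W.a₁) * X + C (algebraMap A K c)).natDegree = 2 := by
          compute_degree!
        intro h
        rw [Polynomial.degree_eq_natDegree (by intro h'; rw [h'] at this; simp at this), this] at h
        simp at h)
    have hxmap : P.HasMap x := by
      refine ⟨by simpa [P] using hx, ?_⟩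
      have h2K : (2 : K) = 0 := by
        rw [← map_ofNat (algebraMap A K) 2, ← RingHom.mem_ker, hker]; exact h2
      have hne : ∀ a, a ∉ p.asIdeal → algebraMap A K a ≠ 0 := fun a hna h =>
        hna (hker.le (RingHom.mem_ker.2 h))
      simp [P, k, map_ofNat, h2K]
      exact ⟨⟨(hne _ ha').isUnit, (hne _ hb').isUnit⟩, (hne _ ha).isUnit⟩
    refine ⟨P.Ring, inferInstance, inferInstance, inferInstance, key P x hxmap, ?_⟩
    obtain ⟨hroot, hunit⟩ := P.hasMap_X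
    simp only [P, k, map_mul, map_add, map_pow, aeval_X, aeval_C, map_ofNat] at hroot hunit
    obtain ⟨⟨hua, hub⟩, hd⟩ := IsUnit.mul_iff.1 hunit |>.imp_left IsUnit.mul_iff.1
    refine eq_of_root (W.map (algebraMap A P.Ring)) (W'.map (algebraMap A P.Ring)) ?_ ?_
      (hv.map (algebraMap A P.Ring)) (r := algebraMap A P.Ring r) (s := P.X) ?_ ?_ ?_ ?_
      (by simpa using hd) (by simpa using hua) (by simpa [map_b₂] using hub)
    · rw [map_j, map_j, hj]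
    · rw [map_j, ← hj]; exact h0.map _
    · simpa [map_b₂, map_ofNat] using congrArg (algebraMap A P.Ring) hb2
    · simpa [map_b₂, map_b₄, map_ofNat] using congrArg (algebraMap A P.Ring) hb4
    · simpa [map_b₂, map_b₄, map_b₆, map_ofNat] using congrArg (algebraMap A P.Ring) hb6
    · simpa [c, map_ofNat] using hroot
  · let P : StandardEtalePair A :=
      { f := X ^ 2 - C v
        monic_f := monic_X_pow_sub_C v two_ne_zero
        g := C 2 * X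
        cond := ⟨1, 0, 1, by simp [one_add_one_eq_two]⟩ }
    obtain ⟨x, hx⟩ := IsAlgClosed.exists_pow_nat_eq (algebraMap A K v) two_pos
    have hxmap : P.HasMap x := by
      have h2K : algebraMap A K 2 ≠ 0 := fun h => h2 (hker.le (RingHom.mem_ker.2 h))
      have hx0 : x ≠ 0 := by
        rintro rfl
        exact (hv.map (algebraMap A K)).ne_zero (by simpa using hx.symm)
      refine ⟨by simp [P, hx], ?_⟩
      have h2' : (2 : K) ≠ 0 := by rwa [map_ofNat] at h2K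
      simp [P, map_ofNat]
      exact ⟨h2'.isUnit, hx0.isUnit⟩
    refine ⟨P.Ring, inferInstance, inferInstance, inferInstance, key P x hxmap, ?_⟩
    obtain ⟨hroot, hunit⟩ := P.hasMap_X
    simp only [P, map_mul, map_sub, map_pow, aeval_X, aeval_C, map_ofNat] at hroot hunit
    obtain ⟨hu2, hux⟩ := IsUnit.mul_iff.1 hunit
    refine eq_of_two (W.map (algebraMap A P.Ring)) (W'.map (algebraMap A P.Ring))
      (r := algebraMap A P.Ring r) hux.unit (sub_eq_zero.1 hroot) hu2 ?_ ?_ ?_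
    · simpa [map_b₂, map_ofNat] using congrArg (algebraMap A P.Ring) hb2
    · simpa [map_b₂, map_b₄, map_ofNat] using congrArg (algebraMap A P.Ring) hb4
    · simpa [map_b₂, map_b₄, map_b₆, map_ofNat] using congrArg (algebraMap A P.Ring) hb6

end GrothLib.EllJ
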