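import Groth.Agent.Lib.SmoothConn.Main
import Mathlib.AlgebraicGeometry.EllipticCurve.IsomOfJ
import Mathlib.RingTheory.Nakayama
import Mathlib.RingTheory.Henselian

/-!
# Weierstrass curves with the same j-invariant over a complete local domain
-/

set_option autoImplicit false
set_option linter.all false

universe u

open WeierstrassCurve IsLocalRing

noncomputable section

namespace GrothLib.EllJ

section Linear

variable {T : Type u} [CommRing T] [IsLocalRing T] (W : WeierstrassCurve T) [W.IsElliptic]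

theorem six_dvd {m : Ideal T} {a b : T} (ha : IsUnit a) (h : a * b ∈ m) : b ∈ m :=
  (Ideal.unit_mul_mem_iff_mem m ha).1 h

/-- Infinitesimal automorphisms of an elliptic Weierstrass equation vanish. -/
theorem lin_zero (du dr ds dt : T) (h1 : W.a₁ * du = 2 * ds)
    (h2 : 2 * W.a₂ * du = -W.a₁ * ds + 3 * dr) (h3 : 3 * W.a₃ * du = W.a₁ * dr + 2 * dt)
    (h4 : 4 * W.a₄ * du = -W.a₃ * ds + 2 * W.a₂ * dr - W.a₁ * dt)
    (h6 : 6 * W.a₆ * du = W.a₄ * dr - W.a₃ * dt) :
    du = 0 ∧ dr = 0 ∧ ds = 0 ∧ dt = 0 := by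
  let J : Ideal T := Ideal.span {du, dr, ds, dt}
  have hu : du ∈ J := Ideal.subset_span (by simp)
  have hr : dr ∈ J := Ideal.subset_span (by simp)
  have hs : ds ∈ J := Ideal.subset_span (by simp)
  have ht : dt ∈ J := Ideal.subset_span (by simp)
  suffices hle : J ≤ maximalIdeal T • J by
    have h0 : J = ⊥ := Submodule.eq_bot_of_le_smul_of_le_jacobson_bot (maximalIdeal T) J
      (Submodule.fg_span (Set.toFinite _)) hle (maximalIdeal_le_jacobson _)
    simp only [J, Ideal.span_eq_bot, Set.mem_insert_iff, Set.mem_singleton_iff, forall_eq_or_imp,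
      forall_eq] at h0
    exact h0
  have mJ : ∀ {a x : T}, a ∈ maximalIdeal T → x ∈ J → a * x ∈ maximalIdeal T • J :=
    fun ha hx => Submodule.smul_mem_smul ha hx
  have un : ∀ {a : T}, a ∉ maximalIdeal T → IsUnit a := fun h => notMem_maximalIdeal.1 h
  suffices h : du ∈ maximalIdeal T • J ∧ dr ∈ maximalIdeal T • J ∧ ds ∈ maximalIdeal T • J ∧
      dt ∈ maximalIdeal T • J by
    refine Ideal.span_le.2 ?_
    rintro x (rfl | rfl | rfl | rfl)
    exacts [h.1, h.2.1, h.2.2.1, h.2.2.2]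
  set M := maximalIdeal T • J
  have hb2 : W.b₂ * du = 6 * dr ∨ ¬ IsUnit (2 : T) := by
    by_cases h : IsUnit (2 : T)
    · refine Or.inl (h.mul_left_cancel ?_)
      simp only [b₂]
      linear_combination 2 * W.a₁ * h1 + 4 * h2
    · exact Or.inr h
  by_cases t2 : (2 : T) ∈ maximalIdeal T
  · have t3 : IsUnit (3 : T) := un fun h3' => (maximalIdeal.isMaximal T).ne_top
      ((Ideal.eq_top_iff_one _).2 (by
        have := sub_mem h3' t2
        norm_num at this
        skip))
    by_cases ta : W.a₁ ∈ maximalIdeal T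
    · have ta3 : IsUnit W.a₃ := un fun ha3 => (maximalIdeal.isMaximal T).ne_top
        (Ideal.eq_top_of_isUnit_mem _ (by
          have e : W.Δ = W.a₁ * (-W.b₂ * W.b₈ * W.a₁) + 2 * (-(2 * W.a₂ * W.b₂ * W.b₈))
              - 8 * W.b₄ ^ 3 - 27 * W.b₆ * W.b₆ + 9 * W.b₂ * W.b₄ * W.b₆ := by
            simp only [Δ, b₂]; ring
          have hb6 : W.b₆ ∈ maximalIdeal T := by
            rw [b₆, show W.a₃ ^ 2 + 4 * W.a₆ = W.a₃ * W.a₃ + 2 * (2 * W.a₆) by ring]
            exact add_mem (Ideal.mul_mem_right _ _ ha3) (Ideal.mul_mem_right _ _ t2)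
          rw [e]
          refine add_mem (sub_mem (sub_mem (add_mem ?_ ?_) ?_) ?_) ?_
          · exact Ideal.mul_mem_right _ _ ta
          · exact Ideal.mul_mem_right _ _ t2
          · rw [show (8 : T) * W.b₄ ^ 3 = 2 * (4 * W.b₄ ^ 3) by ring]
            exact Ideal.mul_mem_right _ _ t2
          · exact Ideal.mul_mem_left _ _ hb6
          · exact Ideal.mul_mem_left _ _ hb6) W.isUnit_Δ)
      have e_r : dr ∈ M := six_dvd t3 (by
        rw [show 3 * dr = 2 * (W.a₂ * du) + W.a₁ * ds by linear_combination -h2]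
        exact add_mem (mJ t2 (J.mul_mem_left _ hu)) (mJ ta hs))
      have e_u : du ∈ M := six_dvd (t3.mul ta3) (by
        rw [show 3 * W.a₃ * du = W.a₁ * dr + 2 * dt from h3]
        exact add_mem (mJ ta hr) (mJ t2 ht))
      refine ⟨e_u, e_r, six_dvd ta3 ?_, six_dvd ta3 ?_⟩
      · rw [show W.a₃ * ds = 2 * (W.a₂ * dr) - W.a₁ * dt - 4 * W.a₄ * du by linear_combination h4]
        exact sub_mem (sub_mem (mJ t2 (J.mul_mem_left _ hr)) (mJ ta ht)) (M.mul_mem_left _ e_u)
      · rw [show W.a₃ * dt = W.a₄ * dr - 6 * W.a₆ * du by linear_combination h6]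
        exact sub_mem (M.mul_mem_left _ e_r) (M.mul_mem_left _ e_u)
    · have hA := un ta
      have e_u : du ∈ M := six_dvd hA (by rw [h1]; exact mJ t2 hs)
      have e_r : dr ∈ M := six_dvd hA (by
        rw [show W.a₁ * dr = 3 * W.a₃ * du - 2 * dt by linear_combination -h3]
        exact sub_mem (M.mul_mem_left _ e_u) (mJ t2 ht))
      have e_s : ds ∈ M := six_dvd hA (by
        rw [show W.a₁ * ds = 3 * dr - 2 * W.a₂ * du by linear_combination h2]
        exact sub_mem (M.mul_mem_left _ e_r) (M.mul_mem_left _ e_u))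
      refine ⟨e_u, e_r, e_s, six_dvd hA ?_⟩
      rw [show W.a₁ * dt = 2 * W.a₂ * dr - W.a₃ * ds - 4 * W.a₄ * du by linear_combination h4]
      exact sub_mem (sub_mem (M.mul_mem_left _ e_r) (M.mul_mem_left _ e_s)) (M.mul_mem_left _ e_u)
  · have t2u := un t2
    have e2 : W.b₂ * du = 6 * dr := hb2.resolve_right (not_not_intro t2u)
    have e4 : 4 * W.b₄ * du = W.b₂ * dr := by
      simp only [b₂, b₄]
      linear_combination 2 * h4 + W.a₁ * h3 + W.a₃ * h1
    have e6 : 3 * W.b₆ * du = W.b₄ * dr := by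
      refine t2u.mul_left_cancel ?_
      simp only [b₄, b₆]
      linear_combination 2 * W.a₃ * h3 + 4 * h6
    suffices hur : du ∈ M ∧ dr ∈ M by
      refine ⟨hur.1, hur.2, six_dvd t2u ?_, six_dvd t2u ?_⟩
      · rw [← h1]; exact M.mul_mem_left _ hur.1
      · rw [show 2 * dt = 3 * W.a₃ * du - W.a₁ * dr by linear_combination -h3]
        exact sub_mem (M.mul_mem_left _ hur.1) (M.mul_mem_left _ hur.2)
    by_cases t3 : (3 : T) ∈ maximalIdeal T
    · by_cases tb : W.b₂ ∈ maximalIdeal T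
      · have tb4 : IsUnit W.b₄ := un fun hb4 => (maximalIdeal.isMaximal T).ne_top
          (Ideal.eq_top_of_isUnit_mem _ (by
            rw [Δ, show -W.b₂ ^ 2 * W.b₈ - 8 * W.b₄ ^ 3 - 27 * W.b₆ ^ 2 + 9 * W.b₂ * W.b₄ * W.b₆ =
              W.b₂ * (-W.b₂ * W.b₈ + 9 * W.b₄ * W.b₆) + W.b₄ * (-8 * W.b₄ ^ 2)
                + 3 * (-(9 * W.b₆ ^ 2)) by ring]
            exact add_mem (add_mem (Ideal.mul_mem_right _ _ tb) (Ideal.mul_mem_right _ _ hb4))
              (Ideal.mul_mem_right _ _ t3)) W.isUnit_Δ)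
        have h4u : IsUnit (4 * W.b₄) := by
          rw [show (4 : T) = 2 * 2 by norm_num]; exact (t2u.mul t2u).mul tb4
        refine ⟨six_dvd h4u (by rw [e4]; exact mJ tb hr), six_dvd tb4 ?_⟩
        rw [← e6, mul_assoc]
        exact mJ t3 (J.mul_mem_left _ hu)
      · have e_u : du ∈ M := six_dvd (un tb) (by
          rw [e2, show (6 : T) * dr = 3 * (2 * dr) by ring]; exact mJ t3 (J.mul_mem_left _ hr))
        exact ⟨e_u, six_dvd (un tb) (by rw [← e4]; exact M.mul_mem_left _ e_u)⟩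
    · have h6u : IsUnit (6 : T) := by
        rw [show (6 : T) = 2 * 3 by norm_num]; exact t2u.mul (un t3)
      have hc4 : W.c₄ * du = 0 := by
        simp only [c₄]
        linear_combination W.b₂ * e2 - 6 * e4
      have hc6 : W.c₆ * du = 0 := by
        have h0 : W.c₄ * dr = 0 := h6u.mul_left_cancel (by
          linear_combination -W.c₄ * e2 + W.b₂ * hc4)
        simp only [c₄] at h0
        simp only [c₆]
        linear_combination -W.b₂ ^ 2 * e2 + 36 * W.b₄ * e2 - 72 * e6 - 6 * h0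
      have h1728 : IsUnit (1728 : T) := by
        rw [show (1728 : T) = 6 ^ 3 * 2 ^ 3 by norm_num]; exact (h6u.pow 3).mul (t2u.pow 3)
      have hdu : du = 0 := by
        refine (h1728.mul W.isUnit_Δ).mul_left_cancel ?_
        linear_combination du * W.c_relation + W.c₄ ^ 2 * hc4 - W.c₆ * hc6
      have hdr : dr = 0 := h6u.mul_left_cancel (by linear_combination -e2 + W.b₂ * hdu)
      exact ⟨hdu ▸ M.zero_mem, hdr ▸ M.zero_mem⟩

/-- An automorphism congruent to the identity modulo an ideal of square zero is trivial. -/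
theorem eq_one_of_smul_eq {I : Ideal T} (hI : ∀ a ∈ I, ∀ b ∈ I, a * b = 0) (D : VariableChange T)
    (hD : D • W = W) (hu : (D.u : T) - 1 ∈ I) (hr : D.r ∈ I) (hs : D.s ∈ I) (ht : D.t ∈ I) :
    D = 1 := by
  have hi : (D.u : T) * ↑D.u⁻¹ = 1 := Units.mul_inv _
  set du := (D.u : T) - 1 with hdu
  have p : ∀ {a b : T}, a ∈ I → b ∈ I → a * b = 0 := fun ha hb => hI _ ha _ hb
  have k1 := congrArg WeierstrassCurve.a₁ hD
  have k2 := congrArg WeierstrassCurve.a₂ hD
  have k3 := congrArg WeierstrassCurve.a₃ hD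
  have k4 := congrArg WeierstrassCurve.a₄ hD
  have k6 := congrArg WeierstrassCurve.a₆ hD
  simp only [variableChange_a₁, variableChange_a₂, variableChange_a₃, variableChange_a₄,
    variableChange_a₆] at k1 k2 k3 k4 k6
  have hu2 : (D.u : T) ^ 2 = 1 + 2 * du := by linear_combination p hu hu
  have hu3 : (D.u : T) ^ 3 = 1 + 3 * du := by linear_combination (du + 3) * p hu hu
  have hu4 : (D.u : T) ^ 4 = 1 + 4 * du := by linear_combination (du ^ 2 + 4 * du + 6) * p hu hu
  have hu6 : (D.u : T) ^ 6 = 1 + 6 * du := by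
    linear_combination (du ^ 4 + 6 * du ^ 3 + 15 * du ^ 2 + 20 * du + 15) * p hu hu
  have i1 : (D.u : T) * W.a₁ = W.a₁ + 2 * D.s := by
    conv_lhs => rw [← k1]
    rw [← mul_assoc, hi, one_mul]
  have i2 : (D.u : T) ^ 2 * W.a₂ = W.a₂ - D.s * W.a₁ + 3 * D.r - D.s ^ 2 := by
    conv_lhs => rw [← k2]
    rw [← mul_assoc, ← mul_pow, hi, one_pow, one_mul]
  have i3 : (D.u : T) ^ 3 * W.a₃ = W.a₃ + D.r * W.a₁ + 2 * D.t := by
    conv_lhs => rw [← k3]
    rw [← mul_assoc, ← mul_pow, hi, one_pow, one_mul]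
  have i4 : (D.u : T) ^ 4 * W.a₄ = W.a₄ - D.s * W.a₃ + 2 * D.r * W.a₂ - (D.t + D.r * D.s) * W.a₁
      + 3 * D.r ^ 2 - 2 * D.s * D.t := by
    conv_lhs => rw [← k4]
    rw [← mul_assoc, ← mul_pow, hi, one_pow, one_mul]
  have i6 : (D.u : T) ^ 6 * W.a₆ = W.a₆ + D.r * W.a₄ + D.r ^ 2 * W.a₂ + D.r ^ 3 - D.t * W.a₃
      - D.t ^ 2 - D.r * D.t * W.a₁ := by
    conv_lhs => rw [← k6]
    rw [← mul_assoc, ← mul_pow, hi, one_pow, one_mul]
  obtain ⟨z1, z2, z3, z4⟩ := lin_zero W du D.r D.s D.t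
    (by linear_combination i1)
    (by linear_combination i2 - W.a₂ * hu2 - p hs hs)
    (by linear_combination i3 - W.a₃ * hu3)
    (by linear_combination i4 - W.a₄ * hu4 - W.a₁ * p hr hs + 3 * p hr hr - 2 * p hs ht)
    (by linear_combination i6 - W.a₆ * hu6 + (W.a₂ + D.r) * p hr hr - p ht ht - W.a₁ * p hr ht)
  exact VariableChange.ext (Units.ext (sub_eq_zero.1 z1)) z2 z3 z4

end Linear

section Integral

variable {R L : Type u} [CommRing R] [CommRing L] [Algebra R L]

theorem isIntegral_of_quartic {x a b c : L} (ha : IsIntegral R a) (hb : IsIntegral R b)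
    (hc : IsIntegral R c) (h : x ^ 4 + a * x ^ 2 + b * x + c = 0) : IsIntegral R x := by
  let S := integralClosure R L
  haveI : Algebra.IsIntegral R S := ⟨fun y => (isIntegral_algHom_iff S.val Subtype.val_injective).1 y.2⟩
  refine isIntegral_trans (A := S) x ⟨Polynomial.X ^ 4 + (Polynomial.C ⟨a, ha⟩ * Polynomial.X ^ 2 +
    Polynomial.C ⟨b, hb⟩ * Polynomial.X + Polynomial.C ⟨c, hc⟩), ?_, ?_⟩
  · refine Polynomial.monic_X_pow_add ?_
    compute_degree!
  · simp only [Polynomial.eval₂_add, Polynomial.eval₂_mul, Polynomial.eval₂_pow, Polynomial.eval₂_X,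
      Polynomial.eval₂_C]
    rw [← h]
    show x ^ 4 + (a * x ^ 2 + b * x + c) = _
    ring

theorem isIntegral_of_quadratic {x a b : L} (ha : IsIntegral R a) (hb : IsIntegral R b)
    (h : x ^ 2 + a * x + b = 0) : IsIntegral R x := by
  let S := integralClosure R L
  haveI : Algebra.IsIntegral R S := ⟨fun y => (isIntegral_algHom_iff S.val Subtype.val_injective).1 y.2⟩
  refine isIntegral_trans (A := S) x ⟨Polynomial.X ^ 2 + (Polynomial.C ⟨a, ha⟩ * Polynomial.X +
    Polynomial.C ⟨b, hb⟩), ?_, ?_⟩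
  · refine Polynomial.monic_X_pow_add ?_
    compute_degree!
  · simp only [Polynomial.eval₂_add, Polynomial.eval₂_mul, Polynomial.eval₂_pow, Polynomial.eval₂_X,
      Polynomial.eval₂_C]
    rw [← h]
    show x ^ 2 + (a * x + b) = _
    ring

end Integral

section Surjective

variable {R S : Type u} [CommRing R] [IsLocalRing R] [IsAlgClosed (ResidueField R)] [CommRing S]
  [IsLocalRing S] [IsNoetherianRing S] [Algebra R S] [FaithfulSMul R S] [Module.Finite R S]

/-- The coordinates of an isomorphism of elliptic Weierstrass equations generate nothing new. -/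
theorem surjective_of_variableChange (W W' : WeierstrassCurve R) [W.IsElliptic]
    (CS : VariableChange S) (hCS : CS • W.map (algebraMap R S) = W'.map (algebraMap R S))
    (hgen : ∀ A : Subalgebra R S, (CS.u : S) ∈ A → (↑CS.u⁻¹ : S) ∈ A → CS.r ∈ A → CS.s ∈ A →
      CS.t ∈ A → ∀ x, x ∈ A) :
    Function.Surjective (algebraMap R S) := by
  haveI : Algebra.IsIntegral R S := Algebra.IsIntegral.of_finite R S
  haveI : IsLocalHom (algebraMap R S) := inferInstance
  haveI : Algebra.IsIntegral (ResidueField R) (ResidueField S) := by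
    refine ⟨fun x => ?_⟩
    obtain ⟨x, rfl⟩ := residue_surjective x
    have hx : IsIntegral R (residue S x) :=
      (Algebra.IsIntegral.isIntegral (R := R) x).map (IsScalarTower.toAlgHom R S (ResidueField S))
    exact hx.tower_top
  have hres : ∀ x : S, ∃ a : R, x - algebraMap R S a ∈ maximalIdeal S := fun x => by
    obtain ⟨y, hy⟩ := (IsAlgClosed.algebraMap_bijective_of_isIntegral (k := ResidueField R)
      (K := ResidueField S)).2 (residue S x)
    obtain ⟨a, rfl⟩ := residue_surjective y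
    refine ⟨a, ?_⟩
    rw [← residue_eq_zero_iff, map_sub, ← hy]
    exact sub_eq_zero.2 (ResidueField.algebraMap_residue (R := R) (S := S) a).symm
  have hmS : ∀ a : R, algebraMap R S a ∈ maximalIdeal S → a ∈ maximalIdeal R := fun a ha hu =>
    ha (hu.map _)
  obtain ⟨u₀, hu₀⟩ := hres CS.u
  have hu₀' : IsUnit u₀ := notMem_maximalIdeal.1 fun h => by
    have := add_mem hu₀ (map_nonunit (algebraMap R S) u₀ h)
    rw [sub_add_cancel] at this
    exact this CS.u.isUnit
  obtain ⟨u₁, rfl⟩ := hu₀'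
  obtain ⟨r₀, hr₀⟩ := hres CS.r
  obtain ⟨s₀, hs₀⟩ := hres CS.s
  obtain ⟨t₀, ht₀⟩ := hres CS.t
  let C₀ : VariableChange R := ⟨u₁, r₀, s₀, t₀⟩
  let K : Ideal S := (maximalIdeal R).map (algebraMap R S) ⊔ maximalIdeal S ^ 2
  have hK : K ≤ maximalIdeal S := sup_le
    (((local_hom_TFAE (algebraMap R S)).out 0 2).1 ‹IsLocalHom (algebraMap R S)›) (Ideal.pow_le_self two_ne_zero)
  haveI : Nontrivial (S ⧸ K) := Ideal.Quotient.nontrivial_iff.2
    fun h => (maximalIdeal.isMaximal S).ne_top (top_le_iff.1 (h ▸ hK))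
  haveI : IsLocalRing (S ⧸ K) := .of_surjective' _ Ideal.Quotient.mk_surjective
  let q : S →+* S ⧸ K := Ideal.Quotient.mk K
  let I : Ideal (S ⧸ K) := (maximalIdeal S).map q
  have hI : ∀ a ∈ I, ∀ b ∈ I, a * b = 0 := fun a ha b hb => by
    have h2 : I * I = ⊥ := by
      rw [← Ideal.map_mul, Ideal.map_eq_bot_iff_le_ker, Ideal.mk_ker, ← pow_two]
      exact le_sup_right
    exact (Submodule.mem_bot _).1 (h2 ▸ Ideal.mul_mem_mul ha hb)
  let ψ : R →+* S ⧸ K := q.comp (algebraMap R S)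
  let π : S ⧸ K →+* (S ⧸ K) ⧸ I := Ideal.Quotient.mk I
  have hψ : ∀ a b : R, π (ψ a) = π (ψ b) → ψ a = ψ b := fun a b h => by
    obtain ⟨c, hc, hcab⟩ := (Ideal.mem_map_iff_of_surjective q Ideal.Quotient.mk_surjective).1
      (Ideal.Quotient.eq.1 h)
    have h1 : algebraMap R S (a - b) ∈ maximalIdeal S := by
      have h2 := hK ((Ideal.Quotient.eq).1 (show q c = q (algebraMap R S (a - b)) by
        rw [hcab, map_sub, map_sub]; rfl))
      simpa using sub_mem hc h2
    exact Ideal.Quotient.eq.2 (Ideal.mem_sup_left (by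
      rw [← map_sub]; exact Ideal.mem_map_of_mem _ (hmS _ h1)))
  have hCq : CS.map q • W.map ψ = W'.map ψ := by
    rw [← map_map, map_variableChange, hCS, map_map]
  have hkey : ∀ (x : S) (a : R), x - algebraMap R S a ∈ maximalIdeal S → π (q x) = π (ψ a) :=
    fun x a h => Ideal.Quotient.eq.2 (by
      show q x - q (algebraMap R S a) ∈ I
      rw [← map_sub]; exact Ideal.mem_map_of_mem q h)
  have hcong : (CS.map q).map π = (C₀.map ψ).map π :=
    VariableChange.ext (Units.ext (hkey _ _ hu₀)) (hkey _ _ hr₀) (hkey _ _ hs₀) (hkey _ _ ht₀)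
  have hC₀ : C₀.map ψ • W.map ψ = W'.map ψ := by
    have heq : ((C₀ • W).map ψ).map π = (W'.map ψ).map π := by
      rw [← map_variableChange, ← map_variableChange, ← hcong, map_variableChange, hCq]
    rw [map_variableChange]
    exact WeierstrassCurve.ext (hψ _ _ (congrArg WeierstrassCurve.a₁ heq))
      (hψ _ _ (congrArg WeierstrassCurve.a₂ heq)) (hψ _ _ (congrArg WeierstrassCurve.a₃ heq))
      (hψ _ _ (congrArg WeierstrassCurve.a₄ heq)) (hψ _ _ (congrArg WeierstrassCurve.a₆ heq))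
  have hD : (C₀.map ψ)⁻¹ * CS.map q = 1 := by
    have h1 : ((C₀.map ψ)⁻¹ * CS.map q).map π = 1 := by
      show VariableChange.mapHom π _ = 1
      rw [map_mul, map_inv, inv_mul_eq_one]
      exact hcong.symm
    refine eq_one_of_smul_eq (W.map ψ) hI _ ?_ ?_ ?_ ?_ ?_
    · rw [mul_smul, hCq, ← hC₀, inv_smul_smul]
    · exact Ideal.Quotient.eq.1
        ((congrArg (fun D : VariableChange ((S ⧸ K) ⧸ I) => (D.u : (S ⧸ K) ⧸ I)) h1).trans
          (map_one π).symm)
    · exact Ideal.Quotient.eq_zero_iff_mem.1 (congrArg VariableChange.r h1)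
    · exact Ideal.Quotient.eq_zero_iff_mem.1 (congrArg VariableChange.s h1)
    · exact Ideal.Quotient.eq_zero_iff_mem.1 (congrArg VariableChange.t h1)
  have hPQ : CS.map q = C₀.map ψ := (inv_mul_eq_one.1 hD).symm
  have hg : ∀ x : S, ∃ a : R, q x = ψ a := by
    let A : Subalgebra R S :=
      { carrier := {x | ∃ a : R, q x = ψ a}
        mul_mem' := by rintro x y ⟨a, ha⟩ ⟨b, hb⟩; exact ⟨a * b, by rw [map_mul, map_mul, ha, hb]⟩
        add_mem' := by rintro x y ⟨a, ha⟩ ⟨b, hb⟩; exact ⟨a + b, by rw [map_add, map_add, ha, hb]⟩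
        algebraMap_mem' := fun r => ⟨r, rfl⟩ }
    exact hgen A ⟨u₁, congrArg (fun D : VariableChange (S ⧸ K) => (D.u : S ⧸ K)) hPQ⟩
      ⟨↑u₁⁻¹, congrArg (fun D : VariableChange (S ⧸ K) => (↑D.u⁻¹ : S ⧸ K)) hPQ⟩
      ⟨r₀, congrArg (fun D : VariableChange (S ⧸ K) => D.r) hPQ⟩
      ⟨s₀, congrArg (fun D : VariableChange (S ⧸ K) => D.s) hPQ⟩
      ⟨t₀, congrArg (fun D : VariableChange (S ⧸ K) => D.t) hPQ⟩
  have hn : maximalIdeal S ≤ (maximalIdeal R).map (algebraMap R S) := by
    refine Submodule.le_of_le_smul_of_le_jacobson_bot (IsNoetherian.noetherian _)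
      (maximalIdeal_le_jacobson (R := S) _) fun x hx => ?_
    obtain ⟨a, ha⟩ := hg x
    have h1 := Ideal.Quotient.eq.1 ha
    have ha' : a ∈ maximalIdeal R := hmS a (by simpa using sub_mem hx (hK h1))
    rw [smul_eq_mul, ← pow_two]
    simpa using add_mem h1 (Ideal.mem_sup_left (Ideal.mem_map_of_mem (algebraMap R S) ha'))
  refine (LinearMap.range_eq_top (f := Algebra.linearMap R S)).1
    (top_le_iff.1 (Submodule.le_of_le_smul_of_le_jacobson_bot (Module.Finite.fg_top)
      (maximalIdeal_le_jacobson (R := R) _) fun x _ => ?_))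
  obtain ⟨a, ha⟩ := hg x
  refine Submodule.mem_sup.2 ⟨algebraMap R S a, ⟨a, rfl⟩, x - algebraMap R S a, ?_, by abel⟩
  rw [Ideal.smul_top_eq_map]
  exact (sup_le le_rfl ((Ideal.pow_le_self two_ne_zero).trans hn)) (Ideal.Quotient.eq.1 ha)

end Surjective

variable (R : Type u) [CommRing R] [IsDomain R] [IsNoetherianRing R] [IsLocalRing R]
  [IsAdicComplete (maximalIdeal R) R] [IsAlgClosed (ResidueField R)]

theorem exists_variableChange (W W' : WeierstrassCurve R) [W.IsElliptic] [W'.IsElliptic]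
    (hj : W.j = W'.j) : ∃ C : VariableChange R, C • W = W' := by
  haveI : HenselianLocalRing R :=
    { is_henselian := fun f hf a h1 h2 => HenselianRing.is_henselian f hf a h1 (h2.map _) }
  let L := AlgebraicClosure (FractionRing R)
  let φ := algebraMap R L
  have hφ : Function.Injective φ := by
    rw [show φ = (algebraMap (FractionRing R) L).comp (algebraMap R (FractionRing R)) from
      IsScalarTower.algebraMap_eq _ _ _]
    exact (algebraMap (FractionRing R) L).injective.comp (IsFractionRing.injective R _)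
  obtain ⟨C, hC⟩ := WeierstrassCurve.exists_variableChange_of_j_eq (W.map φ) (W'.map φ)
    (by rw [map_j, map_j, hj])
  have hrr : ∀ a : R, IsIntegral R (φ a) := fun a => isIntegral_algebraMap
  have hnum : ∀ n : ℕ, IsIntegral R (n : L) := fun n => by
    rw [← map_natCast φ n]; exact hrr _
  have kΔ := congrArg WeierstrassCurve.Δ hC
  rw [variableChange_Δ, map_Δ, map_Δ] at kΔ
  obtain ⟨δ, hδ⟩ := W.isUnit_Δ
  obtain ⟨δ', hδ'⟩ := W'.isUnit_Δ
  have hui : IsIntegral R (↑C.u⁻¹ : L) := by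
    refine .of_pow (by norm_num : 0 < 12) ?_
    have : (↑C.u⁻¹ : L) ^ 12 = φ (δ' * ↑δ⁻¹) := by
      rw [map_mul, hδ', ← kΔ, ← hδ, mul_assoc, ← map_mul, Units.mul_inv, map_one, mul_one]
    rw [this]; exact hrr _
  have hiu : (↑C.u⁻¹ : L) * C.u = 1 := C.u.inv_mul
  have hu : IsIntegral R (C.u : L) := by
    refine .of_pow (by norm_num : 0 < 12) ?_
    have : (C.u : L) ^ 12 = φ (δ * ↑δ'⁻¹) := by
      rw [map_mul, hδ, show φ W.Δ = (C.u : L) ^ 12 * φ W'.Δ by
        rw [← kΔ, ← mul_assoc, ← mul_pow, Units.mul_inv, one_pow, one_mul], ← hδ', mul_assoc,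
        ← map_mul, Units.mul_inv, map_one, mul_one]
    rw [this]; exact hrr _
  have k6 := congrArg WeierstrassCurve.b₆ hC
  have k8 := congrArg WeierstrassCurve.b₈ hC
  rw [variableChange_b₆, map_b₆, map_b₆, map_b₂, map_b₄] at k6
  rw [variableChange_b₈, map_b₈, map_b₈, map_b₂, map_b₄, map_b₆] at k8
  have hu6 : (C.u : L) ^ 6 * φ W'.b₆ =
      φ W.b₆ + 2 * C.r * φ W.b₄ + C.r ^ 2 * φ W.b₂ + 4 * C.r ^ 3 := by
    rw [← k6, ← mul_assoc, ← mul_pow, Units.mul_inv, one_pow, one_mul]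
  have hu8 : (C.u : L) ^ 8 * φ W'.b₈ =
      φ W.b₈ + 3 * C.r * φ W.b₆ + 3 * C.r ^ 2 * φ W.b₄ + C.r ^ 3 * φ W.b₂ + 3 * C.r ^ 4 := by
    rw [← k8, ← mul_assoc, ← mul_pow, Units.mul_inv, one_pow, one_mul]
  have hr : IsIntegral R C.r := by
    refine isIntegral_of_quartic (hrr W.b₄).neg
      (((hnum 2).mul (hrr W.b₆)).neg.sub ((hu.pow 6).mul (hrr W'.b₆)))
      (((hu.pow 8).mul (hrr W'.b₈)).sub (hrr W.b₈)) ?_
    push_cast
    linear_combination -C.r * hu6 + hu8
  have k2 := congrArg WeierstrassCurve.a₂ hC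
  have k6' := congrArg WeierstrassCurve.a₆ hC
  simp only [variableChange_a₂, variableChange_a₆, map_a₁, map_a₂, map_a₃, map_a₄, map_a₆] at k2 k6'
  have hs : IsIntegral R C.s := by
    refine isIntegral_of_quadratic (hrr W.a₁)
      ((((hu.pow 2).mul (hrr W'.a₂)).sub (hrr W.a₂)).sub ((hnum 3).mul hr)) ?_
    push_cast
    linear_combination -(C.u : L) ^ 2 * k2 +
      (φ W.a₂ - C.s * φ W.a₁ + 3 * C.r - C.s ^ 2) * ((C.u : L) * ↑C.u⁻¹ + 1) * C.u.mul_inv
  have ht : IsIntegral R C.t := by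
    refine isIntegral_of_quadratic ((hrr W.a₃).add (hr.mul (hrr W.a₁)))
      ((((hu.pow 6).mul (hrr W'.a₆)).sub (hrr W.a₆)).sub
        (((hr.mul (hrr W.a₄)).add ((hr.pow 2).mul (hrr W.a₂))).add (hr.pow 3))) ?_
    linear_combination -(C.u : L) ^ 6 * k6' +
      (φ W.a₆ + C.r * φ W.a₄ + C.r ^ 2 * φ W.a₂ + C.r ^ 3 - C.t * φ W.a₃ - C.t ^ 2
        - C.r * C.t * φ W.a₁) * ((((C.u : L) * ↑C.u⁻¹) ^ 5 + ((C.u : L) * ↑C.u⁻¹) ^ 4
        + ((C.u : L) * ↑C.u⁻¹) ^ 3 + ((C.u : L) * ↑C.u⁻¹) ^ 2 + (C.u : L) * ↑C.u⁻¹ + 1)) * C.u.mul_inv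
  let gens : Set L := {(C.u : L), (↑C.u⁻¹ : L), C.r, C.s, C.t}
  let S : Subalgebra R L := Algebra.adjoin R gens
  haveI : Module.Finite R S := Algebra.finite_adjoin_of_finite_of_isIntegral (Set.toFinite gens) (by
    rintro x (rfl | rfl | rfl | rfl | rfl) <;> assumption)
  haveI : Algebra.IsIntegral R S := Algebra.IsIntegral.of_finite R S
  haveI : IsLocalRing S := SmoothConn.isLocalRing_of_integral_domain R S
  have hmem : ∀ x ∈ gens, x ∈ S := fun x hx => Algebra.subset_adjoin hx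
  let CS : VariableChange S :=
    ⟨⟨⟨C.u, hmem _ (by simp [gens])⟩, ⟨↑C.u⁻¹, hmem _ (by simp [gens])⟩,
      Subtype.ext C.u.mul_inv, Subtype.ext C.u.inv_mul⟩,
      ⟨C.r, hmem _ (by simp [gens])⟩, ⟨C.s, hmem _ (by simp [gens])⟩, ⟨C.t, hmem _ (by simp [gens])⟩⟩
  have hCS : CS • W.map (algebraMap R S) = W'.map (algebraMap R S) := by
    apply WeierstrassCurve.map_injective (f := (S.val : S →+* L)) Subtype.val_injective
    have e1 : CS.map (S.val : S →+* L) = C := VariableChange.ext (Units.ext rfl) rfl rfl rfl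
    exact (map_variableChange (W := W.map (algebraMap R S)) (C := CS) (S.val : S →+* L)).symm.trans
      (e1.symm ▸ hC)
  have hinjS : Function.Injective (algebraMap R S) := fun a b h => hφ (congrArg Subtype.val h)
  haveI : FaithfulSMul R S := (faithfulSMul_iff_algebraMap_injective R S).2 hinjS
  haveI : IsNoetherianRing S := isNoetherianRing_of_fg
    ⟨(Set.toFinite gens).toFinset, by rw [Set.Finite.coe_toFinset]⟩
  have hsurj : Function.Surjective (algebraMap R S) := by
    refine surjective_of_variableChange W W' CS hCS fun A h1 h2 h3 h4 h5 x => ?_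
    obtain ⟨x, hx⟩ := x
    induction hx using Algebra.adjoin_induction with
    | mem y hy =>
      rcases hy with rfl | rfl | rfl | rfl | rfl
      exacts [h1, h2, h3, h4, h5]
    | algebraMap r => exact A.algebraMap_mem r
    | add y z hy hz h1 h2 => exact A.add_mem h1 h2
    | mul y z hy hz h1 h2 => exact A.mul_mem h1 h2
  let e : R ≃+* S := RingEquiv.ofBijective (algebraMap R S) ⟨hinjS, hsurj⟩
  refine ⟨CS.map e.symm.toRingHom, ?_⟩
  have h := congrArg (fun E : WeierstrassCurve S => E.map e.symm.toRingHom) hCS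
  simp only [← map_variableChange, map_map] at h
  rwa [show e.symm.toRingHom.comp (algebraMap R S) = RingHom.id R from
    RingHom.ext fun a => e.symm_apply_apply a, map_id, map_id] at h

end GrothLib.EllJ
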